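import Groth.Agent.W7Cech.FibreAffine
import Groth.Agent.W7Cech.ModPow
import Groth.Agent.W7Cech.ResField
import Groth.Agent.CohFinite.Linear
import Groth.Agent.FlatCx.Dvr
import Groth.Prelude.Def_PerfAux

/-!
Fibre dimensions of cohomology over a discrete valuation ring.
-/

set_option autoImplicit false
set_option backward.isDefEq.respectTransparency false
set_option backward.isDefEq.respectTransparency.types false
set_option linter.style.haveILetI false

universe u

open CategoryTheory CategoryTheory.Limits AlgebraicGeometry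
open Groth.Agent.FlatCx Groth.Agent.W7Cech
open scoped TensorProduct

noncomputable section

namespace Groth.Agent.BettiDvr

variable {A : Type u} [CommRing A]

/-- The fibre rank of a complex computed over any model of the residue field. -/
theorem dRank_eq_finrank (L : CochainComplex (ModuleCat.{u} A) ℤ) (p : ℤ) (k : Type u) [Field k] [Algebra A k]
    (hk : ∀ b : k, ∃ a s : A, algebraMap A k s ≠ 0 ∧ algebraMap A k s * b = algebraMap A k a)
    (x : PrimeSpectrum A) (hx : RingHom.ker (algebraMap A k) = x.asIdeal) :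
    CohIII.dRank L p x = Module.finrank k ((CohIII.bcCx (algebraMap A k) L).homology p) := by
  obtain ⟨σ, hσ⟩ := exists_residueField_equiv (k := k) hk x hx
  let κ := x.asIdeal.ResidueField
  let σA : (ModuleCat.of A k) ≅ ModuleCat.of A κ :=
    (σ.toAddEquiv.toLinearEquiv fun a b => by
      change σ (a • b) = a • σ b
      rw [Algebra.smul_def, map_mul, hσ, ← Algebra.smul_def]).toModuleIso
  obtain ⟨i⟩ := nonempty_bcCx_T A L (B := k) p
  obtain ⟨i'⟩ := nonempty_bcCx_T A L (B := κ) p
  let e₂ := (i ≪≫ (CohIII.TFun L p).mapIso σA ≪≫ i'.symm).toLinearEquiv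
  exact (finrank_eq_of_linear (A := A) k κ hk σ hσ _ _ e₂.toAddEquiv fun a v => e₂.map_smul a v).symm

variable [IsDomain A] [IsDiscreteValuationRing A]

/-- The fibre ranks agree iff the homology is free in two consecutive degrees. -/
theorem dRank_eq_iff (L : CochainComplex (ModuleCat.{u} A) ℤ)
    (hL : ∀ i, Module.Finite A (L.X i) ∧ Module.Free A (L.X i)) (p : ℤ) (s η : PrimeSpectrum A)
    (hs : s.asIdeal = IsLocalRing.maximalIdeal A) (hη : η.asIdeal = ⊥) :
    CohIII.dRank L p s = CohIII.dRank L p η ↔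
      Module.Free A (Hm L p) ∧ Module.Free A (Hm L (p + 1)) := by
  haveI := fun i => (hL i).1
  haveI := fun i => (hL i).2
  have hfl : ∀ m, Module.Flat A (L.X m) := fun m => inferInstance
  haveI : ∀ q, Module.Finite A (Hm L q) := fun q => inferInstance
  let K := FractionRing A
  let k := IsLocalRing.ResidueField A
  rw [dRank_eq_finrank L p k (fun b => ?_) s ((by rw [IsLocalRing.ResidueField.algebraMap_eq, IsLocalRing.ker_residue, hs])),
    dRank_eq_finrank L p K (fun b => ?_) η (hη ▸ ((RingHom.injective_iff_ker_eq_bot _).1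
      (IsFractionRing.injective A K)))]
  rotate_left
  · obtain ⟨⟨a, t⟩, h⟩ := IsLocalization.surj (nonZeroDivisors A) b
    exact ⟨a, t, (IsLocalization.map_units K t).ne_zero, by rw [mul_comm]; exact h⟩
  · obtain ⟨a, rfl⟩ := IsLocalRing.residue_surjective b
    exact ⟨a, 1, by simp, by simp only [map_one, one_mul]; rfl⟩
  obtain ⟨eK⟩ := homology_flatBC K L p
  have hK : Module.finrank K ((CohIII.bcCx (algebraMap A K) L).homology p) =
      Module.finrank K (K ⊗[A] Hm L p) := eK.finrank_eq
  rw [hK]
  have h1 := finrank_le_of_finite (A := A) (Hm L p)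
  have h2 := finrank_bc_residue L hfl p (p + 1) (CochainComplex.next ℤ p) (by simp)
  have htf : Module.IsTorsionFree A (Hm L (p + 1)) ↔ Module.Free A (Hm L (p + 1)) :=
    ⟨fun h => inferInstance, fun h => inferInstance⟩
  rw [← htf, ← h1.2, ← h2.2]
  have := h1.1
  have := h2.1
  simp only [k, K] at *
  omega

variable (A) {X : Scheme.{u}} [X.Over (Spec (CommRingCat.of A))] [IsProper (X ↘ Spec (CommRingCat.of A))]

/-- The dimensions agree iff the cohomology is free in two consecutive degrees. -/
theorem betti_eq_iff (F : X.Modules) (hF : Coh.IsCoh F)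
    (hfl : FlatMod.IsFlatOver (X ↘ Spec (CommRingCat.of A)) F) (p : ℕ)
    (s : Spec (CommRingCat.of A)) (hs : s ≠ genericPoint (Spec (CommRingCat.of A))) :
    PerfAux.betti (X ↘ Spec (CommRingCat.of A)) F s p =
        PerfAux.betti (X ↘ Spec (CommRingCat.of A)) F (genericPoint (Spec (CommRingCat.of A))) p ↔
      Module.Free A (Coh.HH X F p) ∧ Module.Free A (Coh.HH X F (p + 1)) := by
  haveI : IsNoetherianRing A := inferInstance
  obtain ⟨L, b, hL, -, -, hT, hrk, -⟩ := exists_fibre_model A F hF hfl
  haveI := fun i => (hL i).1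
  haveI := fun i => (hL i).2
  have hη : (genericPoint (Spec (CommRingCat.of A)) : PrimeSpectrum A).asIdeal = ⊥ :=
    congrArg PrimeSpectrum.asIdeal (genericPoint_eq_bot_of_affine (CommRingCat.of A))
  have hsne : (s : PrimeSpectrum A).asIdeal ≠ ⊥ := fun h =>
    hs (PrimeSpectrum.ext (h.trans hη.symm))
  have hsmax : (s : PrimeSpectrum A).asIdeal = IsLocalRing.maximalIdeal A :=
    IsLocalRing.eq_maximalIdeal ((s : PrimeSpectrum A).isPrime.isMaximal hsne)
  have key : ∀ q : ℕ, Nonempty (Hm L (q : ℤ) ≃ₗ[A] Coh.HH X F q) := fun q => by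
    obtain ⟨e, -⟩ := hT q
    obtain ⟨i⟩ := nonempty_tensorA_self A F
    exact ⟨(HmEquivT L (fun m => inferInstance) (q : ℤ)).trans
      ((e (ModuleCat.of A A)).trans (Groth.Agent.CohFinite.hhEquiv A i q))⟩
  obtain ⟨e0⟩ := key p
  obtain ⟨e1⟩ := key (p + 1)
  have h := dRank_eq_iff L hL (p : ℤ) s _ hsmax hη
  have hf : ∀ {M N : Type u} [AddCommGroup M] [Module A M] [AddCommGroup N] [Module A N]
      (_ : M ≃ₗ[A] N), (Module.Free A M ↔ Module.Free A N) := fun e =>
    ⟨fun _ => Module.Free.of_equiv e, fun _ => Module.Free.of_equiv e.symm⟩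
  rw [← hf e0, ← hf e1]
  push_cast
  refine Iff.trans ?_ h
  change CohIII.fiberRank _ F p s = CohIII.fiberRank _ F p _ ↔ _
  rw [hrk, hrk]

end Groth.Agent.BettiDvr
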